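import Groth.Agent.Lib.ActSep.Exists
import Groth.Prelude.Def_W4bk4git07Quot
import Mathlib.AlgebraicGeometry.Morphisms.QuasiFinite
import Mathlib.AlgebraicGeometry.PullbackCarrier

/-!
Quasi-finite stabilisers make the action map quasi-finite.
-/

set_option autoImplicit false

universe u

open CategoryTheory Limits MonoidalCategory CartesianMonoidalCategory MonObj AlgebraicGeometry
open Groth.Agent.Lib.GrpSch Groth.Agent.Lib.ActSep

namespace Groth.Agent.H60.ProperAct

variable {S : Scheme.{u}} {G X : Over S} [GrpObj G] (a : AlgGrp.Action G X)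

theorem psi_eq_orb {T : Over S} (f : T ⟶ X) : GIT.psi a f = orb a f := by
  have h : (G ◁ f) = lift (fst G T) (snd G T ≫ f) := by ext1 <;> simp
  rw [GIT.psi, orb, h]

theorem psi_id : GIT.psi a (𝟙 X) = lift a.act (snd G X) := by
  simp [GIT.psi]

theorem isPullback_psi {T : Over S} (f : T ⟶ X) :
    IsPullback (G ◁ f).left (GIT.psi a f).left (GIT.psi a (𝟙 X)).left (X ◁ f).left := by
  rw [psi_id]
  refine IsPullback.of_bot ?_ ?_ (isPullback_whiskerLeft X f)
  · rw [← Over.comp_left, ← Over.comp_left]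
    rw [show GIT.psi a f ≫ snd X T = snd G T from lift_snd _ _, lift_snd]
    exact isPullback_whiskerLeft G f
  · rw [← Over.comp_left, ← Over.comp_left]
    congr 1
    ext1 <;> simp [GIT.psi]

theorem lift_actL {T : Over S} (f : T ⟶ X) (g : T ⟶ G) :
    lift f (𝟙 T) ≫ actL a g = lift (lift g f ≫ a.act) (𝟙 T) := by
  ext1 <;> simp [actL, comp_lift_assoc]

/-- The stabiliser over any translated point is quasi-finite. -/
theorem lqf_translate {T : Over S} (f : T ⟶ X) (g : T ⟶ G)
    [LocallyQuasiFinite (pullback.snd (GIT.psi a (𝟙 X)).left (lift (𝟙 X) (𝟙 X)).left)] :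
    LocallyQuasiFinite (pullback.snd (GIT.psi a (𝟙 X)).left (lift (lift g f ≫ a.act) f).left) := by
  let p := GIT.psi a (𝟙 X)
  let q := GIT.psi a f
  let Δ : X ⟶ X ⊗ X := lift (𝟙 X) (𝟙 X)
  have e1 : lift f (𝟙 T) ≫ (X ◁ f) = f ≫ Δ := by ext1 <;> simp [Δ]
  have e2 : lift (lift g f ≫ a.act) (𝟙 T) ≫ (X ◁ f) = lift (lift g f ≫ a.act) f := by ext1 <;> simp
  haveI h1 : LocallyQuasiFinite (pullback.snd p.left (f.left ≫ Δ.left)) := by
    rw [← pullbackLeftPullbackSndIso_inv_snd_snd p.left Δ.left f.left]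
    infer_instance
  have h2 : IsPullback (pullback.fst q.left (lift f (𝟙 T)).left ≫ (G ◁ f).left)
      (pullback.snd q.left (lift f (𝟙 T)).left) p.left (f.left ≫ Δ.left) := by
    rw [← Over.comp_left, ← e1, Over.comp_left]
    exact (IsPullback.of_hasPullback _ _).paste_horiz (isPullback_psi a f)
  haveI h3 : LocallyQuasiFinite (pullback.snd q.left (lift f (𝟙 T)).left) := by
    rw [← h2.isoPullback_hom_snd]
    infer_instance
  haveI : IsIso (mulL g).left := inferInstanceAs (IsIso ((Over.forget S).map (mulLIso g).hom))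
  haveI : IsIso (actL a g).left := inferInstanceAs (IsIso ((Over.forget S).map (actLIso a g).hom))
  have hsq : IsPullback (mulL g).left q.left q.left (actL a g).left := by
    refine IsPullback.of_horiz_isIso ⟨?_⟩
    rw [← Over.comp_left, ← Over.comp_left]
    congr 1
    show mulL g ≫ GIT.psi a f = GIT.psi a f ≫ actL a g
    rw [psi_eq_orb, mulL_orb]
  have h4 : IsPullback (pullback.fst q.left (lift f (𝟙 T)).left ≫ (mulL g).left)
      (pullback.snd q.left (lift f (𝟙 T)).left) q.left (lift (lift g f ≫ a.act) (𝟙 T)).left := by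
    rw [← lift_actL, Over.comp_left]
    exact (IsPullback.of_hasPullback _ _).paste_horiz hsq
  haveI h5 : LocallyQuasiFinite (pullback.snd q.left (lift (lift g f ≫ a.act) (𝟙 T)).left) := by
    rw [← h4.isoPullback_inv_snd]
    infer_instance
  have h6 : IsPullback (pullback.fst q.left (lift (lift g f ≫ a.act) (𝟙 T)).left ≫ (G ◁ f).left)
      (pullback.snd q.left (lift (lift g f ≫ a.act) (𝟙 T)).left) p.left (lift (lift g f ≫ a.act) f).left := by
    rw [← e2, Over.comp_left]
    exact (IsPullback.of_hasPullback _ _).paste_horiz (isPullback_psi a f)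
  rw [← h6.isoPullback_inv_snd]
  infer_instance

/-- Quasi-finite stabilisers make the action map quasi-finite. -/
theorem lqf_psi [LocallyOfFiniteType (GIT.psi a (𝟙 X)).left] [QuasiCompact (GIT.psi a (𝟙 X)).left]
    [LocallyQuasiFinite (pullback.snd (GIT.psi a (𝟙 X)).left (lift (𝟙 X) (𝟙 X)).left)] :
    LocallyQuasiFinite (GIT.psi a (𝟙 X)).left := by
  refine .of_finite_preimage_singleton _ fun z => ?_
  rcases Set.eq_empty_or_nonempty ((GIT.psi a (𝟙 X)).left ⁻¹' {z}) with h | ⟨x, hx⟩
  · rw [h]; exact Set.finite_empty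
  have e : lift (lift (fst G X) (snd G X) ≫ a.act) (snd G X) = GIT.psi a (𝟙 X) := by
    rw [psi_id, lift_fst_snd, Category.id_comp]
  have h7 := lqf_translate a (snd G X) (fst G X)
  rw [e] at h7
  let p := (GIT.psi a (𝟙 X)).left
  haveI : LocallyQuasiFinite (pullback.snd p p) := h7
  refine ((pullback.snd p p).finite_preimage_singleton x).image (pullback.fst p p) |>.subset fun y hy => ?_
  obtain ⟨w, hw1, hw2⟩ := Scheme.Pullback.exists_preimage_pullback (f := p) (g := p) y x (hy.trans hx.symm)
  exact ⟨w, hw2, hw1⟩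

end Groth.Agent.H60.ProperAct
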