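import Groth.Agent.H60.ProperAct.Shear
import Groth.Prelude.Def_GLinSh
import Mathlib.AlgebraicGeometry.ZariskisMainTheorem
import Mathlib.AlgebraicGeometry.AlgClosed.Basic
import Mathlib.AlgebraicGeometry.Noetherian

/-!
The locus of finite geometric stabilisers is open and invariant.
-/

set_option autoImplicit false
set_option linter.style.haveILetI false

universe u

open CategoryTheory Limits MonoidalCategory CartesianMonoidalCategory MonObj AlgebraicGeometry
open Groth.Agent.Lib.GrpSch Groth.Agent.Lib.ActSep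

namespace Groth.Agent.H60.ProperAct

noncomputable section

variable {S : Scheme.{u}} {G X T : Over S} [GrpObj G] (a : AlgGrp.Action G X)

/-- The stabiliser of a point, as a reducible fibre product. -/
abbrev St {T : Over S} (f : T ⟶ X) : Scheme.{u} := pullback (GIT.psi a f).left (lift f (𝟙 T)).left

/-- Its structure map. -/
abbrev stP {T : Over S} (f : T ⟶ X) : St a f ⟶ T.left := pullback.snd (GIT.psi a f).left (lift f (𝟙 T)).left

theorem stP_eq (f : T ⟶ X) : GLinSh.stabTo a f = stP a f := rfl

theorem isPullback_psi_stab (f : T ⟶ X) :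
    IsPullback (pullback.fst (GIT.psi a f).left (lift f (𝟙 T)).left ≫ (G ◁ f).left) (stP a f)
      (GIT.psi a (𝟙 X)).left (f.left ≫ (lift (𝟙 X) (𝟙 X)).left) := by
  have e1 : lift f (𝟙 T) ≫ (X ◁ f) = f ≫ lift (𝟙 X) (𝟙 X) := by ext1 <;> simp
  rw [← Over.comp_left (f := f), ← e1, Over.comp_left]
  exact (IsPullback.of_hasPullback _ _).paste_horiz (isPullback_psi a f)

/-- The map of the stabiliser of a point to the stabiliser scheme. -/
def stabMap (f : T ⟶ X) : St a f ⟶ St a (𝟙 X) :=
  pullback.lift (pullback.fst (GIT.psi a f).left (lift f (𝟙 T)).left ≫ (G ◁ f).left) (stP a f ≫ f.left) (by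
    rw [(isPullback_psi_stab a f).w, Category.assoc])

theorem isPullback_stabMap (f : T ⟶ X) :
    IsPullback (stabMap a f) (stP a f) (stP a (𝟙 X)) f.left := by
  have h1 : stabMap a f ≫ pullback.fst _ _ = pullback.fst (GIT.psi a f).left (lift f (𝟙 T)).left ≫ (G ◁ f).left :=
    pullback.lift_fst _ _ _
  refine IsPullback.of_right ?_ (pullback.lift_snd _ _ _) (IsPullback.of_hasPullback _ _)
  rw [h1]
  exact isPullback_psi_stab a f

/-- The unit section of a stabiliser. -/
def unitSec (f : T ⟶ X) : T.left ⟶ St a f :=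
  pullback.lift (lift (1 : T ⟶ G) (𝟙 T)).left (𝟙 T.left) (by
    rw [Category.id_comp, ← Over.comp_left]
    congr 1
    ext1 <;> simp [GIT.psi])

theorem unitSec_stabMap (f : T ⟶ X) : unitSec a f ≫ stabMap a f = f.left ≫ unitSec a (𝟙 X) := by
  refine pullback.hom_ext ?_ ?_
  · simp only [unitSec, stabMap, Category.assoc, pullback.lift_fst, pullback.lift_fst_assoc]
    rw [← Over.comp_left, ← Over.comp_left]
    congr 1
    ext1 <;> simp [MonObj.comp_one]
  · simp only [unitSec, stabMap, stP, Category.assoc, pullback.lift_snd, pullback.lift_snd_assoc, Category.id_comp,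
      Category.comp_id]

theorem isFinite_stabTo_translate (f : T ⟶ X) (g : T ⟶ G) :
    IsFinite (stP a (lift g f ≫ a.act)) ↔ IsFinite (stP a f) := by
  let f' := lift g f ≫ a.act
  haveI : IsIso (mulL g).left := inferInstanceAs (IsIso ((Over.forget S).map (mulLIso g).hom))
  haveI : IsIso (actL a g).left := inferInstanceAs (IsIso ((Over.forget S).map (actLIso a g).hom))
  have hsq : IsPullback (mulL g).left (GIT.psi a f).left (GIT.psi a f).left (actL a g).left := by
    refine IsPullback.of_horiz_isIso ⟨?_⟩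
    rw [← Over.comp_left, ← Over.comp_left]
    congr 1
    rw [psi_eq_orb, mulL_orb]
  have h4 : IsPullback (pullback.fst (GIT.psi a f).left (lift f (𝟙 T)).left ≫ (mulL g).left)
      (stP a f) (GIT.psi a f).left (lift f' (𝟙 T)).left := by
    rw [← lift_actL, Over.comp_left]
    exact (IsPullback.of_hasPullback _ _).paste_horiz hsq
  let θ : G ⊗ T ⟶ G ⊗ T := lift (fst G T * (snd G T ≫ g)) (snd G T)
  haveI : IsIso θ := ⟨lift (fst G T * (snd G T ≫ g⁻¹)) (snd G T),
    by ext1 <;> simp [θ, MonObj.comp_mul, _root_.mul_assoc, GrpObj.comp_inv],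
    by ext1 <;> simp [θ, MonObj.comp_mul, _root_.mul_assoc, GrpObj.comp_inv]⟩
  haveI : IsIso θ.left := inferInstanceAs (IsIso ((Over.forget S).map θ))
  have hθ : θ ≫ GIT.psi a f = GIT.psi a f' := by
    rw [psi_eq_orb, psi_eq_orb]
    ext1 <;> simp [θ, f', orb, comp_lift_assoc, act_mul]
  have hsq2 : IsPullback θ.left (GIT.psi a f').left (GIT.psi a f).left (𝟙 (X ⊗ T).left) :=
    IsPullback.of_horiz_isIso ⟨by rw [← Over.comp_left, hθ, Category.comp_id]⟩
  have h7 : IsPullback (pullback.fst (GIT.psi a f').left (lift f' (𝟙 T)).left ≫ θ.left)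
      (stP a f') (GIT.psi a f).left (lift f' (𝟙 T)).left := by
    have h := (IsPullback.of_hasPullback (GIT.psi a f').left (lift f' (𝟙 T)).left).paste_horiz hsq2
    rwa [Category.comp_id] at h
  rw [← h7.isoIsPullback_hom_snd _ _ h4]
  exact MorphismProperty.cancel_left_of_respectsIso @IsFinite _ _

variable {k : Type u} [Field k] {G X T : Over (Spec (CommRingCat.of k))} [GrpObj G] (a : AlgGrp.Action G X)
variable [LocallyOfFiniteType G.hom] [QuasiCompact G.hom] [LocallyOfFiniteType X.hom] [QuasiCompact X.hom]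

theorem lft_psi : LocallyOfFiniteType (GIT.psi a (𝟙 X)).left := by
  haveI : LocallyOfFiniteType ((GIT.psi a (𝟙 X)).left ≫ (X ⊗ X).hom) := by
    rw [Over.w]
    show LocallyOfFiniteType (pullback.fst G.hom X.hom ≫ G.hom)
    infer_instance
  exact locallyOfFiniteType_of_comp _ (X ⊗ X).hom

theorem qc_psi : QuasiCompact (GIT.psi a (𝟙 X)).left := by
  haveI : LocallyOfFiniteType (G ⊗ X).hom := by
    show LocallyOfFiniteType (pullback.fst G.hom X.hom ≫ G.hom)
    infer_instance
  haveI : QuasiCompact (G ⊗ X).hom := by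
    show QuasiCompact (pullback.fst G.hom X.hom ≫ G.hom)
    infer_instance
  haveI : IsLocallyNoetherian (G ⊗ X).left := LocallyOfFiniteType.isLocallyNoetherian (G ⊗ X).hom
  haveI : CompactSpace (G ⊗ X).left := QuasiCompact.compactSpace_of_compactSpace (G ⊗ X).hom
  haveI : IsNoetherian (G ⊗ X).left := {}
  infer_instance

instance lft_stabTo (f : T ⟶ X) : LocallyOfFiniteType (stP a f) :=
  have := lft_psi a
  MorphismProperty.of_isPullback (P := @LocallyOfFiniteType) (isPullback_psi_stab a f) inferInstance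

instance qc_stabTo (f : T ⟶ X) : QuasiCompact (stP a f) :=
  have := qc_psi a
  MorphismProperty.of_isPullback (P := @QuasiCompact) (isPullback_psi_stab a f) inferInstance

/-- The locus where the stabiliser is quasi-finite at the unit. -/
def finStab : X.left.Opens := unitSec a (𝟙 X) ⁻¹ᵁ (stP a (𝟙 X)).quasiFiniteLocus

theorem isFinite_stabTo_of_mem {Ω : Type u} [Field Ω] [IsAlgClosed Ω] {T : Over (Spec (CommRingCat.of k))}
    (i : T.left ≅ Spec (CommRingCat.of Ω)) (f : T ⟶ X) (t₀ : T.left) (h : f.left t₀ ∈ finStab a) :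
    IsFinite (stP a f) := by
  let π := stP a (𝟙 X)
  let p := stP a f
  haveI : Subsingleton T.left := ⟨fun u v => i.hom.homeomorph.injective (Subsingleton.elim (α := PrimeSpectrum Ω) _ _)⟩
  haveI : JacobsonSpace (St a f) := LocallyOfFiniteType.jacobsonSpace p
  let W : (St a f).Opens := stabMap a f ⁻¹ᵁ π.quasiFiniteLocus
  haveI : LocallyQuasiFinite (π.quasiFiniteLocus.ι ≫ π) := by
    rw [← Scheme.Hom.quasiFiniteLocus_eq_top_iff, Scheme.Hom.quasiFiniteLocus_comp, Scheme.Opens.ι_preimage_self]
  haveI : LocallyQuasiFinite (W.ι ≫ p) :=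
    MorphismProperty.of_isPullback (P := @LocallyQuasiFinite)
      ((isPullback_morphismRestrict (stabMap a f) π.quasiFiniteLocus).paste_vert (isPullback_stabMap a f))
      inferInstance
  let e₀ := unitSec a f t₀
  have he₀ : e₀ ∈ W := by
    show stabMap a f (unitSec a f t₀) ∈ π.quasiFiniteLocus
    rw [← Scheme.Hom.comp_apply, unitSec_stabMap]
    exact h
  have he₀o : IsOpen ({e₀} : Set (St a f)) := by
    have h1 := (W.ι ≫ p).isDiscrete_preimage_singleton t₀
    have h2 : (W.ι ≫ p) ⁻¹' {t₀} = Set.univ := Set.eq_univ_of_forall fun _ => Subsingleton.elim _ _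
    rw [h2, isDiscrete_univ_iff] at h1
    haveI := h1
    have h3 := W.ι.isOpenEmbedding.isOpenMap {⟨e₀, he₀⟩} (isOpen_discrete _)
    rwa [Set.image_singleton] at h3
  let D : Set (St a f) := {z | IsOpen ({z} : Set (St a f))}
  have hD : IsOpen D := by
    refine isOpen_iff_forall_mem_open.2 fun z hz => ⟨{z}, ?_, hz, rfl⟩
    rintro w rfl; exact hz
  have hclosed : ∀ z : St a f, IsClosed ({z} : Set _) → z ∈ D := fun z hz => by
    let sc : Spec (CommRingCat.of Ω) ⟶ St a f := pointOfClosedPoint (p ≫ i.hom) z hz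
    have hsc : i.hom ≫ sc ≫ p = 𝟙 T.left := by
      rw [← cancel_mono i.hom, Category.id_comp, Category.assoc, Category.assoc, pointOfClosedPoint_comp,
        Category.comp_id]
    let s := i.hom ≫ sc
    let g₂ : T ⟶ G ⊗ T := Over.homMk (s ≫ pullback.fst (GIT.psi a f).left (lift f (𝟙 T)).left) (by
      rw [← Over.w (GIT.psi a f), ← Category.assoc, Category.assoc s, pullback.condition,
        ← Category.assoc s, show s ≫ pullback.snd _ _ = 𝟙 T.left from (Category.assoc _ _ _).trans hsc,
        Category.id_comp]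
      exact Over.w (lift f (𝟙 T)))
    have hg₂ : g₂ ≫ GIT.psi a f = lift f (𝟙 T) := Over.OverMorphism.ext (by
      show (s ≫ pullback.fst _ _) ≫ (GIT.psi a f).left = _
      rw [Category.assoc, pullback.condition, ← Category.assoc,
        show s ≫ pullback.snd _ _ = 𝟙 T.left from (Category.assoc _ _ _).trans hsc, Category.id_comp])
    let g : T ⟶ G := g₂ ≫ fst G T
    have hg2 : g₂ = lift g (𝟙 T) := by
      ext1
      · simp [g]
      · have := congrArg (· ≫ snd X T) hg₂
        simpa [GIT.psi] using this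
    have hgf : lift g f ≫ a.act = f := by
      have := congrArg (· ≫ fst X T) hg₂
      rw [hg2] at this
      simpa [GIT.psi, ← Category.assoc, lift_whiskerLeft] using this
    haveI : IsIso (mulL g).left := inferInstanceAs (IsIso ((Over.forget _).map (mulLIso g).hom))
    haveI : IsIso (actL a g).left := inferInstanceAs (IsIso ((Over.forget _).map (actLIso a g).hom))
    have hsq : IsPullback (mulL g).left (GIT.psi a f).left (GIT.psi a f).left (actL a g).left := by
      refine IsPullback.of_horiz_isIso ⟨?_⟩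
      rw [← Over.comp_left, ← Over.comp_left]
      congr 1
      rw [psi_eq_orb, mulL_orb]
    have h4 : IsPullback (pullback.fst (GIT.psi a f).left (lift f (𝟙 T)).left ≫ (mulL g).left)
        p (GIT.psi a f).left (lift f (𝟙 T)).left := by
      have e := lift_actL a f g
      rw [hgf] at e
      have h := (IsPullback.of_hasPullback (GIT.psi a f).left (lift f (𝟙 T)).left).paste_horiz hsq
      rwa [← Over.comp_left, e] at h
    let τ := h4.isoPullback
    have hτ : unitSec a f ≫ τ.hom = s := by
      refine pullback.hom_ext ?_ ?_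
      · rw [Category.assoc, IsPullback.isoPullback_hom_fst, unitSec, pullback.lift_fst_assoc]
        show (lift (1 : T ⟶ G) (𝟙 T)).left ≫ (mulL g).left = g₂.left
        rw [← Over.comp_left, hg2]
        congr 1
        ext1 <;> simp [mulL, MonObj.comp_mul]
      · rw [Category.assoc, IsPullback.isoPullback_hom_snd]
        exact (pullback.lift_snd _ _ _).trans ((Category.assoc _ _ _).trans hsc).symm
    have hz' : τ.hom e₀ = z := by
      show τ.hom (unitSec a f t₀) = z
      rw [← Scheme.Hom.comp_apply, hτ, Scheme.Hom.comp_apply]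
      exact pointOfClosedPoint_apply _ _ _ _
    show IsOpen {z}
    rw [← hz', ← Set.image_singleton]
    exact τ.hom.homeomorph.isOpenMap _ he₀o
  have hall : D = Set.univ := by
    by_contra hne
    obtain ⟨z, hzD, hzc⟩ := nonempty_inter_closedPoints (Set.nonempty_compl.2 hne)
      hD.isClosed_compl.isLocallyClosed
    exact hzD (hclosed z hzc)
  haveI : DiscreteTopology (St a f) :=
    discreteTopology_iff_isOpen_singleton.2 fun z => (hall ▸ Set.mem_univ z : z ∈ D)
  haveI : LocallyQuasiFinite p :=
    locallyQuasiFinite_iff_isDiscrete_preimage_singleton.2 fun _ =>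
      (isDiscrete_univ_iff.2 inferInstance).mono (Set.subset_univ _)
  haveI : IsLocallyNoetherian T.left := isLocallyNoetherian_of_isOpenImmersion i.hom
  haveI : IsLocallyArtinian T.left := IsLocallyArtinian.of_isLocallyNoetherian_of_discreteTopology
  exact IsFinite.of_locallyQuasiFinite p

theorem mem_of_isFinite {T : Over (Spec (CommRingCat.of k))} (f : T ⟶ X) (t₀ : T.left)
    (hf : IsFinite (stP a f)) : (stP a (𝟙 X) ⁻¹' {f.left t₀}).Finite := by
  haveI := hf
  refine (((stP a f).finite_preimage_singleton t₀).image (stabMap a f)).subset fun z hz => ?_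
  obtain ⟨w, hw₁, hw₂⟩ := Scheme.exists_preimage_of_isPullback (isPullback_stabMap a f) z t₀ hz
  exact ⟨w, hw₂, hw₁⟩

theorem mem_finStab_of_finite (x : X.left) (h : (stP a (𝟙 X) ⁻¹' {x}).Finite) : x ∈ finStab a := by
  let π := stP a (𝟙 X)
  let z := unitSec a (𝟙 X) x
  have hz : π z = x := by
    show π (unitSec a (𝟙 X) x) = x
    rw [← Scheme.Hom.comp_apply, show unitSec a (𝟙 X) ≫ π = 𝟙 _ from pullback.lift_snd _ _ _]
    rfl
  show π.QuasiFiniteAt z
  rw [Scheme.Hom.quasiFiniteAt_iff_isOpen_singleton_asFiber]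
  haveI : Finite (π.fiber (π z)) := by
    rw [hz]
    haveI := h.to_subtype
    exact Finite.of_equiv _ (π.fiberHomeo x).symm.toEquiv
  haveI : LocallyOfFiniteType (π.fiberToSpecResidueField (π z)) :=
    inferInstanceAs (LocallyOfFiniteType (pullback.snd _ _))
  haveI : JacobsonSpace (π.fiber (π z)) := LocallyOfFiniteType.jacobsonSpace (π.fiberToSpecResidueField (π z))
  exact isOpen_discrete _

end

end Groth.Agent.H60.ProperAct
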